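import Cfsg.Agent.Tri4.Enum

/-!
# The decompositions of the special lattice of `3³ : S₄` (helper45)
-/

set_option autoImplicit false
set_option maxRecDepth 100000

namespace Cfsg.Agent.Tri4

/-- the Gram matrix (principal character removed) -/
def MG : ℕ → ℕ → ℤ := fun i j => (([[2, 0, -1, 1, 0, 0, 1, 0, 0], [0, 2, 0, -1, 0, 0, 0, 1, 1], [-1, 0, 3, -1, 1, 1, -1, 1, 1], [1, -1, -1, 3, 1, 1, 1, -1, -1], [0, 0, 1, 1, 3, 1, 0, 0, 1], [0, 0, 1, 1, 1, 4, 1, 1, 1], [1, 0, -1, 1, 0, 1, 3, 0, 1], [0, 1, 1, -1, 0, 1, 0, 3, 1], [0, 1, 1, -1, 1, 1, 1, 1, 4]] : List (List ℤ)).getD i []).getD j 0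

def St0 : List (List (List ℤ)) :=
  [[]]

def St1 : List (List (List ℤ)) :=
  [[[1], [1]]]

def St2 : List (List (List ℤ)) :=
  [[[1, 1], [-1, 1]],
    [[0, 1], [0, 1], [1, 0], [1, 0]]]

def St3 : List (List (List ℤ)) :=
  [[[0, 0, 1], [-1, 0, 1], [1, 1, 0], [-1, 1, 0]],
    [[0, 0, 1], [-1, 0, 1], [0, 1, 0], [0, 1, 0], [1, 0, 0], [1, 0, 0]]]

def St4 : List (List (List ℤ)) :=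
  [[[1, 0, 0, 1], [0, -1, 0, 1], [-1, 1, 1, 0], [0, -1, 1, 0], [1, 0, 0, 0]],
    [[1, 0, 0, 1], [0, -1, 0, 1], [0, 0, 1, 0], [-1, 0, 1, 0], [0, 1, 0, 0], [-1, 1, 0, 0]],
    [[0, 0, 0, 1], [1, -1, 0, 1], [0, 0, 1, 0], [-1, 0, 1, 0], [0, 1, 0, 0], [0, 1, 0, 0], [1, 0, 0, 0]]]

def St5 : List (List (List ℤ)) :=
  [[[0, 1, 0, 0, 1], [0, 0, -1, 0, 1], [1, 0, 0, 1, 0], [-1, -1, 0, 1, 0], [1, 0, 1, 0, 0], [0, -1, 1, 0, 0]],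
    [[1, 1, 0, 0, 1], [-1, 0, -1, 0, 1], [0, -1, 1, 1, 0], [0, 0, -1, 1, 0], [0, 1, 0, 0, 0], [1, 0, 0, 0, 0]],
    [[0, 0, 0, 0, 1], [0, 1, -1, 0, 1], [1, 0, 0, 1, 0], [-1, -1, 0, 1, 0], [1, 0, 1, 0, 0], [0, 0, 1, 0, 0], [0, 1, 0, 0, 0]],
    [[1, 1, 0, 0, 1], [-1, 0, -1, 0, 1], [0, 0, 0, 1, 0], [0, -1, 0, 1, 0], [0, 0, 1, 0, 0], [0, -1, 1, 0, 0], [1, 0, 0, 0, 0]],
    [[0, 0, 0, 0, 1], [0, 1, -1, 0, 1], [0, 0, 0, 1, 0], [0, -1, 0, 1, 0], [1, 0, 1, 0, 0], [0, 0, 1, 0, 0], [1, 1, 0, 0, 0], [1, 0, 0, 0, 0]]]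

def St6 : List (List (List ℤ)) :=
  [[[-1, 0, 0, 0, 0, 1], [1, 0, 1, -1, 0, 1], [0, 1, 0, 0, 1, 0], [0, -1, -1, 0, 1, 0], [1, 1, 0, 1, 0, 0], [1, 0, 0, 1, 0, 0], [0, 0, 1, 0, 0, 0]],
    [[0, 1, 1, 0, 0, 1], [0, -1, 0, -1, 0, 1], [1, 0, 0, 0, 1, 0], [-1, 0, -1, 0, 1, 0], [1, 0, 0, 1, 0, 0], [0, 0, -1, 1, 0, 0], [1, 1, 0, 0, 0, 0]],
    [[1, 1, 1, 0, 0, 1], [-1, -1, 0, -1, 0, 1], [0, 0, -1, 1, 1, 0], [0, 0, 0, -1, 1, 0], [0, 0, 1, 0, 0, 0], [-1, 1, 0, 0, 0, 0], [1, 0, 0, 0, 0, 0]],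
    [[-1, 0, 0, 0, 0, 1], [1, 0, 1, -1, 0, 1], [0, 0, 0, 0, 1, 0], [0, 0, -1, 0, 1, 0], [1, 1, 0, 1, 0, 0], [1, 0, 0, 1, 0, 0], [0, 1, 1, 0, 0, 0], [0, 1, 0, 0, 0, 0]],
    [[0, 0, 0, 0, 0, 1], [0, 0, 1, -1, 0, 1], [1, 0, 0, 0, 1, 0], [-1, 0, -1, 0, 1, 0], [0, 1, 0, 1, 0, 0], [1, 0, 0, 1, 0, 0], [0, 1, 1, 0, 0, 0], [1, 1, 0, 0, 0, 0]],
    [[1, 1, 1, 0, 0, 1], [-1, -1, 0, -1, 0, 1], [0, 0, 0, 0, 1, 0], [0, 0, -1, 0, 1, 0], [0, 0, 0, 1, 0, 0], [0, 0, -1, 1, 0, 0], [-1, 1, 0, 0, 0, 0], [1, 0, 0, 0, 0, 0]],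
    [[0, 0, 0, 0, 0, 1], [0, 0, 1, -1, 0, 1], [0, 0, 0, 0, 1, 0], [0, 0, -1, 0, 1, 0], [1, 1, 0, 1, 0, 0], [0, 0, 0, 1, 0, 0], [1, 1, 1, 0, 0, 0], [-1, 1, 0, 0, 0, 0], [1, 0, 0, 0, 0, 0]],
    [[0, 0, 0, 0, 0, 1], [0, 0, 1, -1, 0, 1], [1, 0, 0, 0, 1, 0], [-1, 0, -1, 0, 1, 0], [1, 1, 0, 1, 0, 0], [0, 0, 0, 1, 0, 0], [0, 1, 1, 0, 0, 0], [0, 1, 0, 0, 0, 0], [1, 0, 0, 0, 0, 0]],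
    [[0, 0, 0, 0, 0, 1], [0, 0, 1, -1, 0, 1], [0, 1, 0, 0, 1, 0], [0, -1, -1, 0, 1, 0], [1, 1, 0, 1, 0, 0], [0, 0, 0, 1, 0, 0], [1, 0, 1, 0, 0, 0], [1, 0, 0, 0, 0, 0], [1, 0, 0, 0, 0, 0]],
    [[0, 0, 0, 0, 0, 1], [0, 0, 1, -1, 0, 1], [0, 0, 0, 0, 1, 0], [0, 0, -1, 0, 1, 0], [0, 1, 0, 1, 0, 0], [1, 0, 0, 1, 0, 0], [1, 1, 1, 0, 0, 0], [0, 1, 0, 0, 0, 0], [1, 0, 0, 0, 0, 0], [1, 0, 0, 0, 0, 0]]]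

def St7 : List (List (List ℤ)) :=
  [[[0, -1, 0, 0, 0, 0, 1], [1, 1, 0, 1, -1, 0, 1], [0, 0, 1, 0, 0, 1, 0], [0, 0, -1, -1, 0, 1, 0], [0, 1, 1, 0, 1, 0, 0], [0, 1, 0, 0, 1, 0, 0], [0, 0, 0, 1, 0, 0, 0], [1, 0, 0, 0, 0, 0, 0], [1, 0, 0, 0, 0, 0, 0]],
    [[1, 0, 0, 0, 0, 0, 1], [0, 0, 0, 1, -1, 0, 1], [0, 0, 1, 0, 0, 1, 0], [0, 0, -1, -1, 0, 1, 0], [0, 1, 1, 0, 1, 0, 0], [-1, 0, 0, 0, 1, 0, 0], [1, 1, 0, 1, 0, 0, 0], [0, 1, 0, 0, 0, 0, 0], [0, 1, 0, 0, 0, 0, 0]],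
    [[0, -1, 0, 0, 0, 0, 1], [1, 1, 0, 1, -1, 0, 1], [0, 0, 0, 0, 0, 1, 0], [0, 0, 0, -1, 0, 1, 0], [0, 1, 1, 0, 1, 0, 0], [0, 1, 0, 0, 1, 0, 0], [0, 0, 1, 1, 0, 0, 0], [0, 0, 1, 0, 0, 0, 0], [1, 0, 0, 0, 0, 0, 0], [1, 0, 0, 0, 0, 0, 0]],
    [[0, 0, 0, 0, 0, 0, 1], [1, 0, 0, 1, -1, 0, 1], [0, 0, 0, 0, 0, 1, 0], [0, 0, 0, -1, 0, 1, 0], [0, 1, 1, 0, 1, 0, 0], [0, 0, 0, 0, 1, 0, 0], [0, 1, 1, 1, 0, 0, 0], [0, -1, 1, 0, 0, 0, 0], [1, 1, 0, 0, 0, 0, 0], [1, 0, 0, 0, 0, 0, 0]],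
    [[0, 0, 0, 0, 0, 0, 1], [1, 0, 0, 1, -1, 0, 1], [0, 1, 0, 0, 0, 1, 0], [0, -1, 0, -1, 0, 1, 0], [0, 1, 1, 0, 1, 0, 0], [0, 0, 0, 0, 1, 0, 0], [0, 0, 1, 1, 0, 0, 0], [0, 0, 1, 0, 0, 0, 0], [1, 1, 0, 0, 0, 0, 0], [1, 0, 0, 0, 0, 0, 0]],
    [[0, 0, 0, 0, 0, 0, 1], [1, 0, 0, 1, -1, 0, 1], [0, 0, 1, 0, 0, 1, 0], [0, 0, -1, -1, 0, 1, 0], [0, 1, 1, 0, 1, 0, 0], [0, 0, 0, 0, 1, 0, 0], [0, 1, 0, 1, 0, 0, 0], [1, 1, 0, 0, 0, 0, 0], [0, 1, 0, 0, 0, 0, 0], [1, 0, 0, 0, 0, 0, 0]],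
    [[1, 0, 0, 0, 0, 0, 1], [0, 0, 0, 1, -1, 0, 1], [0, 0, 0, 0, 0, 1, 0], [0, 0, 0, -1, 0, 1, 0], [-1, 0, 1, 0, 1, 0, 0], [0, 1, 0, 0, 1, 0, 0], [1, 1, 1, 1, 0, 0, 0], [0, 0, 1, 0, 0, 0, 0], [0, 1, 0, 0, 0, 0, 0], [0, 1, 0, 0, 0, 0, 0]],
    [[0, 0, 0, 0, 0, 0, 1], [1, 0, 0, 1, -1, 0, 1], [0, 0, 0, 0, 0, 1, 0], [0, 0, 0, -1, 0, 1, 0], [0, 0, 1, 0, 1, 0, 0], [0, 1, 0, 0, 1, 0, 0], [0, 1, 1, 1, 0, 0, 0], [0, 0, 1, 0, 0, 0, 0], [1, 1, 0, 0, 0, 0, 0], [0, 1, 0, 0, 0, 0, 0], [1, 0, 0, 0, 0, 0, 0]]]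

def St8 : List (List (List ℤ)) :=
  [[[0, 0, -1, 0, 0, 0, 0, 1], [0, 1, 1, 0, 1, -1, 0, 1], [0, 0, 0, 0, 0, 0, 1, 0], [1, 0, 0, 0, -1, 0, 1, 0], [1, 0, 1, 1, 0, 1, 0, 0], [0, 0, 1, 0, 0, 1, 0, 0], [0, 0, 0, 1, 1, 0, 0, 0], [-1, 0, 0, 1, 0, 0, 0, 0], [0, 1, 0, 0, 0, 0, 0, 0], [0, 1, 0, 0, 0, 0, 0, 0]],
    [[0, 0, -1, 0, 0, 0, 0, 1], [0, 1, 1, 0, 1, -1, 0, 1], [1, 0, 0, 0, 0, 0, 1, 0], [0, 0, 0, 0, -1, 0, 1, 0], [1, 0, 1, 1, 0, 1, 0, 0], [0, 0, 1, 0, 0, 1, 0, 0], [-1, 0, 0, 1, 1, 0, 0, 0], [0, 0, 0, 1, 0, 0, 0, 0], [0, 1, 0, 0, 0, 0, 0, 0], [0, 1, 0, 0, 0, 0, 0, 0]],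
    [[0, 0, -1, 0, 0, 0, 0, 1], [0, 1, 1, 0, 1, -1, 0, 1], [0, 0, 0, 1, 0, 0, 1, 0], [1, 0, 0, -1, -1, 0, 1, 0], [1, 0, 1, 1, 0, 1, 0, 0], [0, 0, 1, 0, 0, 1, 0, 0], [0, 0, 0, 0, 1, 0, 0, 0], [0, 1, 0, 0, 0, 0, 0, 0], [0, 1, 0, 0, 0, 0, 0, 0], [1, 0, 0, 0, 0, 0, 0, 0]],
    [[0, 1, 0, 0, 0, 0, 0, 1], [0, 0, 0, 0, 1, -1, 0, 1], [0, 0, 0, 1, 0, 0, 1, 0], [1, 0, 0, -1, -1, 0, 1, 0], [1, 0, 1, 1, 0, 1, 0, 0], [0, -1, 0, 0, 0, 1, 0, 0], [0, 1, 1, 0, 1, 0, 0, 0], [0, 0, 1, 0, 0, 0, 0, 0], [0, 0, 1, 0, 0, 0, 0, 0], [1, 0, 0, 0, 0, 0, 0, 0]],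
    [[0, 0, -1, 0, 0, 0, 0, 1], [0, 1, 1, 0, 1, -1, 0, 1], [0, 0, 0, 0, 0, 0, 1, 0], [1, 0, 0, 0, -1, 0, 1, 0], [0, 0, 1, 1, 0, 1, 0, 0], [1, 0, 1, 0, 0, 1, 0, 0], [0, 0, 0, 1, 1, 0, 0, 0], [0, 0, 0, 1, 0, 0, 0, 0], [0, 1, 0, 0, 0, 0, 0, 0], [0, 1, 0, 0, 0, 0, 0, 0], [1, 0, 0, 0, 0, 0, 0, 0]],
    [[0, 0, 0, 0, 0, 0, 0, 1], [0, 1, 0, 0, 1, -1, 0, 1], [0, 0, 0, 1, 0, 0, 1, 0], [1, 0, 0, -1, -1, 0, 1, 0], [1, 0, 1, 1, 0, 1, 0, 0], [0, 0, 0, 0, 0, 1, 0, 0], [0, 0, 1, 0, 1, 0, 0, 0], [0, 1, 1, 0, 0, 0, 0, 0], [0, 0, 1, 0, 0, 0, 0, 0], [0, 1, 0, 0, 0, 0, 0, 0], [1, 0, 0, 0, 0, 0, 0, 0]],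
    [[0, 1, 0, 0, 0, 0, 0, 1], [0, 0, 0, 0, 1, -1, 0, 1], [0, 0, 0, 0, 0, 0, 1, 0], [1, 0, 0, 0, -1, 0, 1, 0], [0, -1, 0, 1, 0, 1, 0, 0], [1, 0, 1, 0, 0, 1, 0, 0], [0, 1, 1, 1, 1, 0, 0, 0], [0, 0, 0, 1, 0, 0, 0, 0], [0, 0, 1, 0, 0, 0, 0, 0], [0, 0, 1, 0, 0, 0, 0, 0], [1, 0, 0, 0, 0, 0, 0, 0]],
    [[0, 0, 0, 0, 0, 0, 0, 1], [0, 1, 0, 0, 1, -1, 0, 1], [0, 0, 0, 0, 0, 0, 1, 0], [1, 0, 0, 0, -1, 0, 1, 0], [0, 0, 0, 1, 0, 1, 0, 0], [1, 0, 1, 0, 0, 1, 0, 0], [0, 0, 1, 1, 1, 0, 0, 0], [0, 0, 0, 1, 0, 0, 0, 0], [0, 1, 1, 0, 0, 0, 0, 0], [0, 0, 1, 0, 0, 0, 0, 0], [0, 1, 0, 0, 0, 0, 0, 0], [1, 0, 0, 0, 0, 0, 0, 0]]]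

def St9 : List (List (List ℤ)) :=
  [[[0, 0, 0, -1, 0, 0, 0, 0, 1], [0, 0, 1, 1, 0, 1, -1, 0, 1], [0, 1, 0, 0, 0, 0, 0, 1, 0], [1, 0, 0, 0, 0, -1, 0, 1, 0], [1, 1, 0, 1, 1, 0, 1, 0, 0], [0, 0, 0, 1, 0, 0, 1, 0, 0], [0, -1, 0, 0, 1, 1, 0, 0, 0], [0, 0, 0, 0, 1, 0, 0, 0, 0], [1, 0, 1, 0, 0, 0, 0, 0, 0], [0, 0, 1, 0, 0, 0, 0, 0, 0], [1, 0, 0, 0, 0, 0, 0, 0, 0]],
    [[0, 0, 0, -1, 0, 0, 0, 0, 1], [0, 0, 1, 1, 0, 1, -1, 0, 1], [0, 0, 0, 0, 0, 0, 0, 1, 0], [1, 1, 0, 0, 0, -1, 0, 1, 0], [1, 0, 0, 1, 1, 0, 1, 0, 0], [0, 1, 0, 1, 0, 0, 1, 0, 0], [0, 0, 0, 0, 1, 1, 0, 0, 0], [0, 0, 0, 0, 1, 0, 0, 0, 0], [1, 0, 1, 0, 0, 0, 0, 0, 0], [0, 0, 1, 0, 0, 0, 0, 0, 0], [0, 1, 0, 0, 0, 0, 0, 0, 0], [1, 0, 0, 0, 0, 0, 0, 0, 0]],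
    [[0, 0, 0, 0, 0, 0, 0, 0, 1], [0, 0, 1, 0, 0, 1, -1, 0, 1], [0, 0, 0, 0, 0, 0, 0, 1, 0], [1, 1, 0, 0, 0, -1, 0, 1, 0], [1, 0, 0, 0, 1, 0, 1, 0, 0], [0, 1, 0, 1, 0, 0, 1, 0, 0], [0, 0, 0, 1, 1, 1, 0, 0, 0], [0, 0, 0, 0, 1, 0, 0, 0, 0], [0, 0, 1, 1, 0, 0, 0, 0, 0], [1, 0, 0, 1, 0, 0, 0, 0, 0], [1, 0, 1, 0, 0, 0, 0, 0, 0], [0, 1, 0, 0, 0, 0, 0, 0, 0]],
    [[0, 0, 0, 0, 0, 0, 0, 0, 1], [0, 0, 1, 0, 0, 1, -1, 0, 1], [0, 0, 0, 0, 0, 0, 0, 1, 0], [1, 1, 0, 0, 0, -1, 0, 1, 0], [1, 0, 0, 0, 1, 0, 1, 0, 0], [0, 1, 0, 1, 0, 0, 1, 0, 0], [0, 0, 0, 1, 1, 1, 0, 0, 0], [0, 0, 0, 0, 1, 0, 0, 0, 0], [1, 0, 1, 1, 0, 0, 0, 0, 0], [0, 0, 0, 1, 0, 0, 0, 0, 0], [0, 0, 1, 0, 0, 0, 0, 0, 0], [0, 1, 0, 0, 0, 0, 0, 0, 0], [1, 0, 0, 0, 0, 0, 0, 0, 0]]]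

/-- one step -/
def stepOk (c : ℕ) (S S' : List (List (List ℤ))) : Bool :=
  S.all fun R => (srch c R [] (tgt MG c c) (MG c c)).all fun R' => S'.any fun R'' => R'.isPerm R''

theorem step0 : stepOk 0 St0 St1 = true := by decide +kernel

theorem step1 : stepOk 1 St1 St2 = true := by decide +kernel

theorem step2 : stepOk 2 St2 St3 = true := by decide +kernel

theorem step3 : stepOk 3 St3 St4 = true := by decide +kernel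

theorem step4 : stepOk 4 St4 St5 = true := by decide +kernel

theorem step5 : stepOk 5 St5 St6 = true := by decide +kernel

theorem step6 : stepOk 6 St6 St7 = true := by decide +kernel

theorem step7 : stepOk 7 St7 St8 = true := by decide +kernel

theorem step8 : stepOk 8 St8 St9 = true := by decide +kernel

theorem step_apply {X : Type*} [Fintype X] {n : X → ℕ → ℤ} {c : ℕ} {S S' : List (List (List ℤ))}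
    (hst : stepOk c S S' = true) (hN : MG c c ≤ 4) (hM : ∀ j ≤ c, ∑ x, n x j * n x c = MG j c)
    (h : ∃ R ∈ S, Good n c R) : ∃ R ∈ S', Good n (c + 1) R := by
  obtain ⟨R, hR, hG⟩ := h
  obtain ⟨R', hR', hG'⟩ := hG.ext hN hM
  unfold stepOk at hst
  rw [List.all_eq_true] at hst
  have h1 := hst R hR
  rw [List.all_eq_true] at h1
  have h2 := h1 R' hR'
  rw [List.any_eq_true] at h2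
  obtain ⟨R'', hR'', hp⟩ := h2
  exact ⟨R'', hR'', hG'.perm (List.isPerm_iff.1 hp)⟩

/-- the four decompositions -/
theorem exists_good {X : Type*} [Fintype X] {n : X → ℕ → ℤ}
    (hM : ∀ i j, i ≤ j → j < 9 → ∑ x, n x i * n x j = MG i j) : ∃ R ∈ St9, Good n 9 R := by
  have h0 : ∃ R ∈ St0, Good n 0 R := ⟨[], by simp [St0], good_zero n⟩

  have h1 := step_apply step0 (by decide) (fun j hj => hM j 0 hj (by norm_num)) h0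

  have h2 := step_apply step1 (by decide) (fun j hj => hM j 1 hj (by norm_num)) h1

  have h3 := step_apply step2 (by decide) (fun j hj => hM j 2 hj (by norm_num)) h2

  have h4 := step_apply step3 (by decide) (fun j hj => hM j 3 hj (by norm_num)) h3

  have h5 := step_apply step4 (by decide) (fun j hj => hM j 4 hj (by norm_num)) h4

  have h6 := step_apply step5 (by decide) (fun j hj => hM j 5 hj (by norm_num)) h5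

  have h7 := step_apply step6 (by decide) (fun j hj => hM j 6 hj (by norm_num)) h6

  have h8 := step_apply step7 (by decide) (fun j hj => hM j 7 hj (by norm_num)) h7

  have h9 := step_apply step8 (by decide) (fun j hj => hM j 8 hj (by norm_num)) h8

  exact h9

end Cfsg.Agent.Tri4
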